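import Mathlib.Algebra.Homology.DerivedCategory.Ext.ExactSequences
import Mathlib.Algebra.Homology.DerivedCategory.Ext.EnoughProjectives

/-!
# A universal class for `Ext^i(Q, -)`
-/

set_option autoImplicit false
universe w v u

open CategoryTheory CategoryTheory.Limits CategoryTheory.Abelian

namespace GrothLib.ExtUniv

variable {C : Type u} [Category.{v} C] [Abelian C] [EnoughProjectives C] [HasExt.{w} C]

/-- `Ext^{i+k}(Q, -)` is generated by one class in `Ext^i(Q, Z)` composed with `Ext^k(Z, -)`. -/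
theorem exists_universal : ∀ (i : ℕ) (Q : C), ∃ (Z : C) (ξ : Ext Q Z i),
    ∀ (N : C) (k l : ℕ) (h : i + k = l) (e : Ext Q N l), ∃ η : Ext Z N k, ξ.comp η h = e
  | 0, Q => ⟨Q, Ext.mk₀ (𝟙 Q), fun N k l h e => by
      obtain rfl : k = l := (Nat.zero_add k).symm.trans h
      exact ⟨e, Ext.mk₀_id_comp e⟩⟩
  | i + 1, Q => by
    let S : ShortComplex C := ShortComplex.mk (kernel.ι (Projective.π Q)) (Projective.π Q)
      (kernel.condition _)
    have hS : S.ShortExact :=
      { exact := ShortComplex.exact_of_f_is_kernel _ (kernelIsKernel _) }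
    obtain ⟨Z, ξ, hξ⟩ := exists_universal i S.X₁
    refine ⟨Z, hS.extClass.comp ξ (Nat.add_comm 1 i), fun N k l h e => ?_⟩
    obtain ⟨m, rfl⟩ : ∃ m, l = m + 1 := ⟨i + k, by omega⟩
    haveI : Projective S.X₂ := inferInstanceAs (Projective (Projective.over Q))
    obtain ⟨x, hx⟩ := Ext.contravariant_sequence_exact₃ hS N e (Ext.eq_zero_of_projective _)
      (n₀ := m) (Nat.add_comm 1 m)
    obtain ⟨η, hη⟩ := hξ N k m (by omega) x
    refine ⟨η, ?_⟩
    rw [Ext.comp_assoc _ _ _ (Nat.add_comm 1 i) (show i + k = m by omega) (by omega), hη, hx]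

end GrothLib.ExtUniv
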